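import Cfsg.Agent.H6.QO.Frame
import Cfsg.Agent.H6.ORE.Extra
import Cfsg.Agent.H928.Ore.TwE
import Cfsg.Agent.H231.QS.Lift

/-!
# S2491, row F4: noncentral elements of the covers of `²E₆(2)` : definitions and the final assembly (helper231)

`KK F` = `²E₆(2)` (`|F| = 4`), `RE t` : `t` is a root element (a 2-central involution), `CR g` : `g` commutes with a root element,
`P φ J`, `V φ J`, `Lv φ J` : the parabolic subgroup, its unipotent radical and its Levi subgroup, `j1`, `j3`, ... : all nodes but one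
(`P φ j1 = 2^(1+20):U₆(2)`, `P φ j2 = 2^(2+9+18):(S₃ × L₃(4))`, `P φ j3 = 2^(3+4+12+12):(L₃(2) × A₅)`, `P φ j4 = 2^(8+16):Ω₈⁻(2)`).
-/

set_option autoImplicit false

namespace Cfsg.Agent.H231.QF

open CoxeterSystem Cfsg.Agent.ChevalleyStructure.CoxeterGeom Cfsg.Agent.Tits.Roots Cfsg.Agent.Tits.Core
  Cfsg.Agent.Nodes Cfsg.Agent.Nodes.Reps Cfsg.Agent.Nodes.BNOf Cfsg.Agent.Nodes.RGDLib Cfsg.Agent.Nodes.Bruhat
  Cfsg.Agent.Nodes.OppDec Cfsg.Agent.Nodes.LeviDec Cfsg.Agent.Nodes.StabComb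
open Cfsg.Lie Subgroup
open Cfsg.Agent.H51.Mult (PCE)
open Cfsg.Agent.H777.Ore (AllC IsC)

universe u v

/-- `²E₆(2)` -/
abbrev KK (F : Type u) [Field F] : Type u := ↥(twistedE6 F 2)

/-- the Coxeter system of `F₄` -/
noncomputable abbrev cs : CoxeterSystem CoxeterMatrix.F₄ CoxeterMatrix.F₄.Group := CoxeterMatrix.F₄.toCoxeterSystem

/-- the highest root (nodes `0`, `1` long, `2`, `3` short) -/
def th : Fin 4 → ℤ := ![2, 3, 4, 2]

section

variable {F : Type u} [Field F]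

/-- root group -/
noncomputable abbrev X (φ : F →+* F) (z : Fin 4 → ℤ) : Subgroup (KK F) := RGDTwE6.X φ 2 z

/-- unipotent radical -/
noncomputable abbrev V (φ : F →+* F) (J : Set (Fin 4)) : Subgroup (KK F) := VJ cs RGDTwE6.isCartan (X φ) J

/-- Levi subgroup -/
noncomputable abbrev Lv (φ : F →+* F) (J : Set (Fin 4)) : Subgroup (KK F) :=
  LJ cs RGDTwE6.isCartan (RGDTwE6.T F 2) (X φ) J

/-- parabolic subgroup -/
noncomputable abbrev P (φ : F →+* F) (J : Set (Fin 4)) : Subgroup (KK F) :=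
  PJ cs RGDTwE6.isCartan (RGDTwE6.T F 2) (X φ) J

/-- all nodes but the first one -/
def j1 : Set (Fin 4) := {k | k ≠ 0}

def j2 : Set (Fin 4) := {k | k ≠ 1}

def j3 : Set (Fin 4) := {k | k ≠ 2}

def j4 : Set (Fin 4) := {k | k ≠ 3}

/-- root elements: involutions in the centre of a Sylow 2-subgroup -/
def RE (t : KK F) : Prop := t ≠ 1 ∧ t * t = 1 ∧ 2 ^ 36 ∣ Nat.card (centralizer ({t} : Set (KK F)))

/-- `g` commutes with a root element -/
def CR (g : KK F) : Prop := ∃ t, RE t ∧ g * t = t * g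

/-- `g` is conjugate into `P_J` -/
def In (φ : F →+* F) (J : Set (Fin 4)) (g : KK F) : Prop := ∃ x : KK F, x * g * x⁻¹ ∈ P φ J

/-- `g` is conjugate into `P_J \ V_J` -/
def Out (φ : F →+* F) (J : Set (Fin 4)) (g : KK F) : Prop := ∃ x : KK F, x * g * x⁻¹ ∈ P φ J ∧ x * g * x⁻¹ ∉ V φ J

/-- small centralizer -/
def Sm (g : KK F) : Prop := Nat.card (centralizer ({g} : Set (KK F))) ≤ 1260

end

/-! ### The assembly -/

section

variable {F : Type u} [Field F] {φ : F →+* F} {L : Type v} [Group L] {π : L →* KK F}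

theorem isC_conj {g : L} (x : L) (h : IsC (x * g * x⁻¹)) : IsC g :=
  h.of_isConj (isConj_iff.2 ⟨x, rfl⟩).symm

theorem of_conj (hs : Function.Surjective π) {Q : KK F → Prop} (hQ : ∀ g : L, Q (π g) → IsC g) {g : L} {x : KK F}
    (h : Q (x * π g * x⁻¹)) : IsC g := by
  obtain ⟨x, rfl⟩ := hs x
  refine isC_conj x (hQ _ ?_)
  rwa [map_mul, map_mul, map_inv]

/-- **The assembly of the row.** -/
theorem nc_of (hs : Function.Surjective π) (hc : π.ker ≤ center L)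
    (hp1 : ∀ g : L, π g ∈ P φ j1 → π g ∉ V φ j1 → IsC g)
    (hp4 : ∀ g : L, π g ∈ P φ j4 → π g ∉ V φ j4 → IsC g)
    (hsv : ∀ g : L, π g ≠ 1 → Sm (π g) → IsC g)
    (ht3 : ∀ g : L, π g ≠ 1 → (∃ k : ℕ, (π g) ^ 3 ^ k = 1) → IsC g)
    (hcl : ∀ g : KK F, g ≠ 1 → In φ j1 g ∨ Out φ j4 g ∨ Sm g ∨ ∃ k : ℕ, g ^ 3 ^ k = 1)
    (hv1 : ∀ g : KK F, g ∈ V φ j1 → g ≠ 1 → Out φ j1 g) : H6.QO.NC L := by
  intro g hg
  have h1 : π g ≠ 1 := fun h => hg (hc h)
  have key : Out φ j1 (π g) → IsC g := by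
    rintro ⟨x, hx⟩
    exact of_conj hs (Q := fun y => y ∈ P φ j1 ∧ y ∉ V φ j1) (fun y hy => hp1 y hy.1 hy.2) hx
  rcases hcl _ h1 with h2 | h2 | h2 | h2
  · obtain ⟨x, hx⟩ := h2
    by_cases h3 : x * π g * x⁻¹ ∈ V φ j1
    · refine key ?_
      have h4 : x * π g * x⁻¹ ≠ 1 := by
        intro h5
        apply h1
        calc π g = x⁻¹ * (x * π g * x⁻¹) * x := by group
          _ = 1 := by rw [h5]; group
      obtain ⟨y, hy⟩ := hv1 _ h3 h4
      refine ⟨y * x, ?_⟩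
      have e : y * x * π g * (y * x)⁻¹ = y * (x * π g * x⁻¹) * y⁻¹ := by group
      rw [e]
      exact hy
    · exact key ⟨x, hx, h3⟩
  · obtain ⟨x, hx⟩ := h2
    exact of_conj hs (Q := fun y => y ∈ P φ j4 ∧ y ∉ V φ j4) (fun y hy => hp4 y hy.1 hy.2) hx
  · exact hsv g h1 h2
  · exact ht3 g h1 h2

end

end Cfsg.Agent.H231.QF
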