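import Cfsg.Agent.H231.QF.Defs
import Cfsg.Agent.H326.QS.VPE
import Cfsg.Agent.Nodes.ExactLift
import Cfsg.Agent.KFacts.RgdAutFacts
import Cfsg.Agent.Nodes.RGDTwActE6
import Cfsg.Agent.H164.F4.Coll

/-!
# S2491, row F4: the kernel is in `[V~, P~]` (H1)

Central extensions `π : L → K`, `K = ²E₆(2)`, `D r = ⁅V_r~, P_r~⁆` for the long roots `r`. If `D θ ⊓ ker π = ⊥` then the root groups
have lifts `Y b` with exact commutator relations, so the Sylow 2-subgroup of `K` splits in `L`, and the transfer kills the 2-part of the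
kernel.
-/

set_option autoImplicit false
set_option linter.unusedSectionVars false

namespace Cfsg.Agent.H231.QF.HOne

open CoxeterSystem Cfsg.Agent.ChevalleyStructure.CoxeterGeom Cfsg.Agent.Tits.Roots Cfsg.Agent.Tits.Core
  Cfsg.Agent.Nodes Cfsg.Agent.Nodes.Reps Cfsg.Agent.Nodes.BNOf Cfsg.Agent.Nodes.RGDLib Cfsg.Agent.Nodes.Bruhat
  Cfsg.Agent.Nodes.OppDec Cfsg.Agent.Nodes.LeviDec Cfsg.Agent.Nodes.StabComb Cfsg.Agent.KFacts.RgdSL
  Cfsg.Agent.Nodes.RGDTwE6 Cfsg.Agent.KFacts.TwESix.Comb Cfsg.Agent.KFacts.TwESix.Btw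
open Cfsg.Agent.Nodes.RGDTwComE6 (Lg St comm_nil comm_long comm_trace comm_short comm_quad long_or_short)
open Cfsg.Agent.Nodes.RGDTwActE6 (mem_X_long mem_X_short x_mem x_add exists_T x_zero)
open Cfsg.Lie Subgroup
open Cfsg.Agent.H326.QS.VP (Q conj_Q)
open Cfsg.Agent.H231.QF
open scoped commutatorElement

universe u v

/-! ### Tables -/

/-- long decomposition -/
theorem tab_long : ∀ b ∈ rts, bf b b = 4 → ∀ r ∈ rts, bf r r = 4 → 0 < bf b r →
    ∃ a ∈ rts, bf a a = 4 ∧ b - a ∈ rts ∧ bf (b - a) (b - a) = 4 ∧ bf a (b - a) = -2 ∧ 0 ≤ bf a r ∧ 0 < bf (b - a) r ∧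
      0 < bf a b ∧ 0 < bf (b - a) b := by decide +kernel

theorem tab_pair : ∀ a ∈ rts, (∀ k, 0 ≤ a k) → ∀ b ∈ rts, (∀ k, 0 ≤ b k) → a ≠ b →
    ∃ r ∈ rts, bf r r = 4 ∧ ((0 < bf b r ∧ 0 ≤ bf a r) ∨ (0 < bf a r ∧ 0 ≤ bf b r)) := by decide +kernel

theorem tab_short : ∀ b ∈ rts, ∃ r ∈ rts, bf r r = 4 ∧ 0 < bf b r := by decide +kernel

theorem tab_th : th ∈ rts ∧ bf th th = 4 := by decide +kernel

theorem bf_th : ∀ x ∈ rts, bf x th = 2 * x 0 := by decide +kernel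

/-- integral betweenness -/
def bti (a b c : Fin 4 → ℤ) : Prop := IsRoot cs isCartan c ∧ ∃ i j : ℕ, 0 < i ∧ 0 < j ∧ c = i • a + j • b

theorem lg_iff {z : Fin 4 → ℤ} (hz : z ∈ rts) : Lg z ↔ bf z z = 4 := by
  have h : ∀ z ∈ rts, (Lg z ↔ bf z z = 4) := by decide +kernel
  exact h z hz

theorem st_iff {z : Fin 4 → ℤ} (hz : z ∈ rts) : St z ↔ bf z z = 2 := by
  have h : ∀ z ∈ rts, (St z ↔ bf z z = 2) := by decide +kernel
  exact h z hz

/-! ### Facts on the group -/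

section K

variable {F : Type u} [Field F] [Fintype F] {φ : F →+* F} (hφ : ∀ t, φ t = t ^ 2) (hqq : ∀ t : F, (t ^ 2) ^ 2 = t)

/-- the join of the root groups of the roots between `a` and `b` -/
noncomputable def BX (φ : F →+* F) (a b : Fin 4 → ℤ) : Subgroup (KK F) := ⨆ c : {c : Fin 4 → ℤ // bti a b c}, X φ c.1

theorem BX_comm (a b : Fin 4 → ℤ) : BX φ a b = BX φ b a := by
  have key : ∀ a b, BX φ a b ≤ BX φ b a := by
    intro a b
    refine iSup_le fun c => ?_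
    obtain ⟨h1, i, j, hi, hj, e⟩ := c.2
    exact le_iSup (fun c : {c : Fin 4 → ℤ // bti b a c} => X φ c.1) ⟨c.1, h1, j, i, hj, hi, by rw [e, add_comm]⟩
  exact le_antisymm (key a b) (key b a)

include hφ hqq

theorem mem_BX {a b : Fin 4 → ℤ} (ha : IsRoot cs isCartan a) (hb : IsRoot cs isCartan b) (hne : a ≠ -b) {u v : KK F}
    (hu : u ∈ X φ a) (hv : v ∈ X φ b) : ⁅u, v⁆ ∈ BX φ a b := by
  -- one direction
  have key : ∀ {a b : Fin 4 → ℤ} (_ : IsRoot cs isCartan a) (_ : IsRoot cs isCartan b) (_ : a ≠ -b)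
      (_ : Lg a ∨ St b) {u v : KK F} (_ : u ∈ X φ a) (_ : v ∈ X φ b), ⁅u, v⁆ ∈ BX φ a b := by
    intro a b ha hb hne hor u v hu hv
    by_cases hab : IsRoot cs isCartan (a + b)
    swap
    · obtain ⟨s, -, rfl⟩ := (RGDTwActE6.mem_X hφ hqq ha _).1 hu
      obtain ⟨t, -, rfl⟩ := (RGDTwActE6.mem_X hφ hqq hb _).1 hv
      have hne' : b ≠ -a := by
        rintro rfl
        exact hne (neg_neg a).symm
      rw [commutatorElement_eq_one_iff_commute.2 (comm_nil hφ hqq ha hb hab hne' s t)]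
      exact one_mem _
    have hle : X φ (a + b) ≤ BX φ a b :=
      le_iSup (fun c : {c : Fin 4 → ℤ // bti a b c} => X φ c.1) ⟨a + b, hab, 1, 1, one_pos, one_pos, by simp⟩
    obtain ⟨s, hs, rfl⟩ := (RGDTwActE6.mem_X hφ hqq ha _).1 hu
    obtain ⟨t, ht, rfl⟩ := (RGDTwActE6.mem_X hφ hqq hb _).1 hv
    rcases long_or_short ha with la | sa <;> rcases long_or_short hb with lb | sb
    · obtain ⟨h1, h2⟩ := comm_long hφ hqq ha hb hab la lb ((RGDTwComE6.ok_iff_long ha la).1 hs)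
        ((RGDTwComE6.ok_iff_long hb lb).1 ht)
      rw [h2]
      refine hle ((mem_X_long hφ hqq hab h1 _).2 ⟨_, ?_, rfl⟩)
      rw [map_mul, map_mul, map_intCast, (RGDTwComE6.ok_iff_long ha la).1 hs, (RGDTwComE6.ok_iff_long hb lb).1 ht]
    · obtain ⟨h1, h2, h3, h4⟩ := comm_quad hφ hqq ha hb hab la sb ((RGDTwComE6.ok_iff_long ha la).1 hs) t
      rw [h4]
      refine mul_mem (hle ((mem_X_short hφ hqq hab h1 _).2 ⟨_, rfl⟩)) ?_
      have hle2 : X φ (a + (2 : ℤ) • b) ≤ BX φ a b :=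
        le_iSup (fun c : {c : Fin 4 → ℤ // bti a b c} => X φ c.1)
          ⟨a + (2 : ℤ) • b, h2, 1, 2, one_pos, two_pos, by rw [one_smul]; norm_cast⟩
      refine hle2 ((mem_X_long hφ hqq h2 h3 _).2 ⟨_, ?_, rfl⟩)
      rw [map_mul, map_mul, map_intCast, map_mul, RGDTwComE6.phi_phi hφ hqq,
        (RGDTwComE6.ok_iff_long ha la).1 hs, mul_comm (φ t) t]
    · exfalso
      rcases hor with h | h
      · exact RGDTwComE6.not_both h sa
      · exact RGDTwComE6.not_both lb h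
    · rcases long_or_short hab with h | h
      · rw [comm_trace hφ hqq ha hb hab sa sb h]
        refine hle ((mem_X_long hφ hqq hab h _).2 ⟨_, ?_, rfl⟩)
        rw [map_mul, map_add, map_mul, map_mul, map_intCast, RGDTwComE6.phi_phi hφ hqq, RGDTwComE6.phi_phi hφ hqq,
          add_comm]
      · rw [comm_short hφ hqq ha hb hab sa sb h]
        exact hle ((mem_X_short hφ hqq hab h _).2 ⟨_, rfl⟩)
  by_cases hor : Lg a ∨ St b
  · exact key ha hb hne hor hu hv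
  · have hor' : Lg b ∨ St a := by
      rcases long_or_short ha with la | sa
      · exact absurd (Or.inl la) hor
      · exact Or.inr sa
    have h1 := key hb ha (fun h => hne (by rw [h, neg_neg])) hor' hv hu
    rw [← commutatorElement_inv, BX_comm]
    exact inv_mem h1

/-- short root groups: `X b ≤ [X b, T]` -/
theorem le_comm_T (hF : Fintype.card F = 4) {b : Fin 4 → ℤ} (hb : IsRoot cs isCartan b) (sb : St b) :
    X φ b ≤ ⁅X φ b, RGDTwE6.T F 2⁆ := by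
  intro w hw
  obtain ⟨c, rfl⟩ := (mem_X_short hφ hqq hb sb _).1 hw
  obtain ⟨l, hl0, hl1⟩ : ∃ l : F, l ≠ 0 ∧ l ≠ 1 := by
    classical
    by_contra hne
    push Not at hne
    have h1 : Fintype.card F ≤ Fintype.card Bool := by
      refine Fintype.card_le_of_injective (fun x : F => decide (x = 0)) ?_
      intro x y hxy
      by_cases hx : x = 0
      · simp [hx] at hxy
        rw [hx, hxy]
      · by_cases hy : y = 0
        · simp [hx, hy] at hxy
        · rw [hne x hx, hne y hy]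
    rw [hF, Fintype.card_bool] at h1
    omega
  have hok : ∀ a : F, Cfsg.Agent.Nodes.RGDTwCoord.Ok chevE6 J RGDTwCoordE6.O φ b a := fun a =>
    RGDTwComE6.ok_short hφ hqq hb sb a
  obtain ⟨t, ht, h1⟩ := exists_T hφ hqq hb (hok 1) (hok l) one_ne_zero hl0
  have h2 : RGDTwComE6.x φ 2 b c = ⁅RGDTwComE6.x φ 2 b (c / (1 - l)), t⁆ := by
    have h3 : (1 - l) ≠ 0 := sub_ne_zero.2 (Ne.symm hl1)
    have h4 : (RGDTwComE6.x φ 2 b (c / (1 - l)))⁻¹ = RGDTwComE6.x φ 2 b (-(c / (1 - l))) := by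
      rw [inv_eq_iff_mul_eq_one, ← x_add hφ hqq hb (hok _) (hok _), add_neg_cancel, x_zero hφ hqq hb]
    rw [commutatorElement_def, mul_assoc, mul_assoc, ← mul_assoc t, h4, h1 _ (hok _), ← x_add hφ hqq hb (hok _) (hok _)]
    congr 1
    field_simp
    ring
  rw [h2]
  exact commutator_mem_commutator ((mem_X_short hφ hqq hb sb _).2 ⟨_, rfl⟩) ht

end K

/-! ### The lifts -/

/-- the radical of the parabolic subgroup of the root `r` -/
noncomputable def Vr {F : Type u} [Field F] (φ : F →+* F) (r : Fin 4 → ℤ) : Subgroup (KK F) :=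
  RGD.Sup (X φ) (Q fun c => 0 < bf c r)

/-- the parabolic subgroup of the root `r` -/
noncomputable def Pr {F : Type u} [Field F] (φ : F →+* F) (r : Fin 4 → ℤ) : Subgroup (KK F) :=
  RGDTwE6.T F 2 ⊔ RGD.Sup (X φ) (Q fun c => 0 ≤ bf c r)

section Par

variable {F : Type u} [Field F] {φ : F →+* F}

theorem X_le_Vr {c r : Fin 4 → ℤ} (hc : c ∈ rts) (h : 0 < bf c r) : X φ c ≤ Vr φ r :=
  RGD.le_Sup (S := Q fun c => 0 < bf c r) ⟨hc, h⟩

theorem X_le_Pr {c r : Fin 4 → ℤ} (hc : c ∈ rts) (h : 0 ≤ bf c r) : X φ c ≤ Pr φ r :=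
  le_trans (RGD.le_Sup (S := Q fun c => 0 ≤ bf c r) ⟨hc, h⟩) le_sup_right

theorem T_le_Pr {r : Fin 4 → ℤ} : RGDTwE6.T F 2 ≤ Pr φ r := le_sup_left

theorem Vr_le_Pr {r : Fin 4 → ℤ} : Vr φ r ≤ Pr φ r := RGD.Sup_le fun _ hz => X_le_Pr hz.1 hz.2.le

theorem Vr_th_le : Vr φ th ≤ V φ j1 := by
  refine RGD.Sup_le fun z hz => RGD.le_Sup ⟨(mem_rts cs).2 hz.1, ?_, 0, by simp [j1], ?_⟩
  · have h1 : ∀ x ∈ rts, 0 < bf x th → ∀ k, 0 ≤ x k := by decide +kernel
    exact fun k => h1 z hz.1 hz.2 k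
  · have h1 : 0 < bf z th := hz.2
    rw [bf_th z hz.1] at h1
    omega

theorem Pr_th_le : Pr φ th ≤ P φ j1 := by
  refine sup_le ?_ (RGD.Sup_le fun z hz => ?_)
  · exact le_trans (le_sup_left : RGDTwE6.T F 2 ≤ Lv φ j1) le_sup_left
  · have hz2 : 0 ≤ bf z th := hz.2
    rcases eq_or_lt_of_le hz2 with h | h
    · refine le_trans ?_ (le_sup_left : Lv φ j1 ≤ P φ j1)
      refine le_trans ?_ (le_sup_right : RGD.Sup (X φ) (RootsJ cs isCartan j1) ≤ Lv φ j1)
      refine RGD.le_Sup ⟨(mem_rts cs).2 hz.1, fun k hk => ?_⟩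
      have hk0 : k = 0 := by
        by_contra h
        exact hk h
      rw [bf_th z hz.1] at h
      rw [hk0]
      omega
    · refine le_trans ?_ (le_sup_right : V φ j1 ≤ P φ j1)
      exact le_trans (X_le_Vr hz.1 h) Vr_th_le

end Par

section L

variable {F : Type u} [Field F] [Fintype F] {φ : F →+* F} (hφ : ∀ t, φ t = t ^ 2) (hqq : ∀ t : F, (t ^ 2) ^ 2 = t)
  {L : Type v} [Group L] {π : L →* KK F}

/-- `[V_r~, P_r~]` -/
noncomputable def D (φ : F →+* F) (π : L →* KK F) (r : Fin 4 → ℤ) : Subgroup L := ⁅(Vr φ r).comap π, (Pr φ r).comap π⁆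

omit [Fintype F] in
theorem mem_D {r : Fin 4 → ℤ} {x y : L} (hx : π x ∈ Vr φ r) (hy : π y ∈ Pr φ r) : ⁅x, y⁆ ∈ D φ π r :=
  commutator_mem_commutator hx hy

omit [Fintype F] in
theorem mem_D' {r : Fin 4 → ℤ} {x y : L} (hx : π x ∈ Pr φ r) (hy : π y ∈ Vr φ r) : ⁅x, y⁆ ∈ D φ π r := by
  rw [← commutatorElement_inv]
  exact inv_mem (mem_D hy hx)

include hφ hqq in
/-- conjugation -/
theorem D_conj [CharP F 2] (hs : Function.Surjective π) (hc : π.ker ≤ center L) (h0 : D φ π th ⊓ π.ker = ⊥)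
    {r : Fin 4 → ℤ} (hr : r ∈ rts) (hl : bf r r = 4) : D φ π r ⊓ π.ker = ⊥ := by
  have : Fact (Nat.Prime 2) := ⟨Nat.prime_two⟩
  set R := rgd cs hφ hqq 2 with hR
  obtain ⟨w₁, h1⟩ := exists_rep_long cs ((mem_rts cs).2 hr) hl
  obtain ⟨w₂, h2⟩ := exists_rep_long cs ((mem_rts cs).2 tab_th.1) tab_th.2
  set w := w₂ * w₁⁻¹ with hw
  have hwr : rep cs isCartan w r = th := by
    rw [hw, rep_mul_apply, ← h1, rep_inv_apply, h2]
  obtain ⟨g, hg⟩ := exists_rp cs R.nsys w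
  obtain ⟨gh, hgh⟩ := hs g
  have hV : ∀ x ∈ Vr φ r, g * x * g⁻¹ ∈ Vr φ th := by
    intro x hx
    refine conj_Q R hg (P' := fun c => 0 < bf c th) (fun c hc h => ?_) hx
    rw [← hwr, bf_rep]
    exact h
  have hP : ∀ x ∈ Pr φ r, g * x * g⁻¹ ∈ Pr φ th := by
    have h3 : Pr φ r ≤ (Pr φ th).comap (MulAut.conj g).toMonoidHom := by
      refine sup_le ?_ (fun x hx => ?_)
      · intro t ht
        refine T_le_Pr ?_
        exact (mem_normalizer_iff.1 hg.mem_normalizer t).1 ht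
      · refine (le_sup_right : RGD.Sup (X φ) (Q fun c => 0 ≤ bf c th) ≤ Pr φ th) ?_
        refine conj_Q R hg (P' := fun c => 0 ≤ bf c th) (fun c hc h => ?_) hx
        rw [← hwr, bf_rep]
        exact h
    exact fun x hx => h3 hx
  have hD : ∀ x : L, x ∈ D φ π r → gh * x * gh⁻¹ ∈ D φ π th := by
    have h3 : D φ π r ≤ (D φ π th).comap (MulAut.conj gh).toMonoidHom := by
      rw [D, commutator_le]
      intro x hx y hy
      show gh * ⁅x, y⁆ * gh⁻¹ ∈ D φ π th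
      have e : gh * ⁅x, y⁆ * gh⁻¹ = ⁅gh * x * gh⁻¹, gh * y * gh⁻¹⁆ := by
        rw [commutatorElement_def, commutatorElement_def]; group
      rw [e]
      refine mem_D ?_ ?_
      · rw [map_mul, map_mul, map_inv, hgh]
        exact hV _ hx
      · rw [map_mul, map_mul, map_inv, hgh]
        exact hP _ hy
    exact fun x hx => h3 hx
  rw [eq_bot_iff]
  rintro x ⟨hx, hx1⟩
  have h4 := hD x hx
  have h5 : gh * x * gh⁻¹ = x := by
    rw [mem_center_iff.1 (hc hx1) gh, mul_inv_cancel_right]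
  rw [h5] at h4
  rw [← h0]
  exact ⟨h4, hx1⟩

/-- the lift of the root group `X b` -/
noncomputable def Yl (φ : F →+* F) (π : L →* KK F) (b : Fin 4 → ℤ) : Subgroup L :=
  if bf b b = 4 then D φ π b ⊓ (X φ b).comap π else ⁅(X φ b).comap π, (RGDTwE6.T F 2).comap π⁆

section Main

variable [CharP F 2] (hF : Fintype.card F = 4) (hs : Function.Surjective π)

include hφ hqq hs in
/-- the elements of `X b`, `b` long, are commutators -/
theorem exists_comm {b r : Fin 4 → ℤ} (hb : b ∈ rts) (hbl : bf b b = 4) (hr : r ∈ rts) (hrl : bf r r = 4) (h : 0 < bf b r)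
    {w : KK F} (hw : w ∈ X φ b) : ∃ d, π d = w ∧ d ∈ D φ π b ∧ d ∈ D φ π r := by
  have : Fact (Nat.Prime 2) := ⟨Nat.prime_two⟩
  have : Finite CoxeterMatrix.F₄.Group := finiteW cs
  set R := rgd cs hφ hqq 2 with hR
  obtain ⟨a, ha, hal, ha', hal', h1, h2, h3, h4, h5⟩ := tab_long b hb hbl r hr hrl h
  have hA := a2 cs ((mem_rts cs).2 ha) ((mem_rts cs).2 ha') (by rw [hal, hal']) (by rw [h1, hal]; norm_num)
  obtain ⟨u, hu, hu1⟩ := Cfsg.Agent.KFacts.TwESix.Facts.exists_ne_one R ((mem_rts cs).2 ha)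
  have hw' : w ∈ X φ (a + (b - a)) := by
    rw [add_sub_cancel]
    exact hw
  obtain ⟨v, hv, e⟩ := A2.comm_surj R hA hu hu1 hw'
  obtain ⟨uh, rfl⟩ := hs u
  obtain ⟨vh, rfl⟩ := hs v
  refine ⟨⁅uh, vh⁆, by rw [map_commutatorElement, e], ?_, ?_⟩
  · exact mem_D (X_le_Vr ha h4 hu) (X_le_Pr ha' h5.le hv)
  · exact mem_D' (X_le_Pr ha h2 hu) (X_le_Vr ha' h3 hv)

variable (hD : ∀ r ∈ rts, bf r r = 4 → D φ π r ⊓ π.ker = ⊥)

include hφ hqq hs hD in
theorem Yl_le {b r : Fin 4 → ℤ} (hb : b ∈ rts) (hr : r ∈ rts) (hrl : bf r r = 4) (h : 0 < bf b r) :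
    Yl φ π b ≤ D φ π r := by
  unfold Yl
  split_ifs with hl
  · rintro y ⟨hy, hy'⟩
    obtain ⟨d, hd, hd1, hd2⟩ := exists_comm hφ hqq hs hb hl hr hrl h (show π y ∈ X φ b from hy')
    have h1 : y * d⁻¹ ∈ D φ π b ⊓ π.ker := Subgroup.mem_inf.2 ⟨mul_mem (show y ∈ D φ π b from hy) (inv_mem hd1), by
      rw [MonoidHom.mem_ker, map_mul, map_inv, hd, mul_inv_cancel]⟩
    rw [hD b hb hl, mem_bot, mul_inv_eq_one] at h1
    rw [h1]
    exact hd2
  · exact commutator_mono (comap_mono (X_le_Vr hb h)) (comap_mono T_le_Pr)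

include hφ hqq hs hD in
theorem Yl_ker {b : Fin 4 → ℤ} (hb : b ∈ rts) : Yl φ π b ⊓ π.ker = ⊥ := by
  obtain ⟨r, hr, hrl, h⟩ := tab_short b hb
  rw [eq_bot_iff, ← hD r hr hrl]
  exact inf_le_inf_right _ (Yl_le hφ hqq hs hD hb hr hrl h)

include hφ hqq hs hF in
theorem Yl_map {b : Fin 4 → ℤ} (hb : b ∈ rts) : (Yl φ π b).map π = X φ b := by
  unfold Yl
  split_ifs with hl
  · apply le_antisymm
    · rintro _ ⟨y, ⟨-, hy⟩, rfl⟩
      exact hy
    · intro w hw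
      obtain ⟨d, hd, hd1, -⟩ := exists_comm hφ hqq hs hb hl hb hl (by rw [hl]; norm_num) hw
      exact ⟨d, Subgroup.mem_inf.2 ⟨hd1, by rw [mem_comap, hd]; exact hw⟩, hd⟩
  · rw [map_commutator, map_comap_eq_self_of_surjective hs, map_comap_eq_self_of_surjective hs]
    have hb' := (mem_rts cs).2 hb
    apply le_antisymm
    · rw [commutator_le]
      intro x hx t ht
      have : Fact (Nat.Prime 2) := ⟨Nat.prime_two⟩
      have h1 := (rgd cs hφ hqq 2).tor b hb' t ht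
      rw [commutatorElement_def, mul_assoc, mul_assoc]
      refine mul_mem hx ?_
      rw [← mul_assoc]
      show t * x⁻¹ * t⁻¹ ∈ RGDTwE6.X φ 2 b
      rw [← h1]
      exact conj_mem_cj.2 (inv_mem hx)
    · refine le_comm_T hφ hqq hF hb' ((st_iff hb).2 ?_)
      exact (norm_rts b hb).resolve_left hl

include hφ hqq hs hD hF in
theorem Yl_comm {a b : Fin 4 → ℤ} (ha : a ∈ rts) (ha0 : 0 ≤ a) (hb : b ∈ rts) (hb0 : 0 ≤ b) (hab : a ≠ b) :
    ⁅Yl φ π a, Yl φ π b⁆ ≤ ⨆ c : {c : Fin 4 → ℤ // bti a b c}, Yl φ π c.1 := by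
  obtain ⟨r, hr, hrl, h⟩ := tab_pair a ha (fun k => ha0 k) b hb (fun k => hb0 k) hab
  rw [commutator_le]
  intro x hx y hy
  have hx' : π x ∈ X φ a := by
    rw [← Yl_map hφ hqq hF hs ha]
    exact mem_map_of_mem π hx
  have hy' : π y ∈ X φ b := by
    rw [← Yl_map hφ hqq hF hs hb]
    exact mem_map_of_mem π hy
  have hne : a ≠ -b := by
    intro h1
    have h2 : b = 0 := by
      apply le_antisymm _ hb0
      rw [h1] at ha0
      exact neg_nonneg.1 ha0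
    exact ((mem_rts cs).2 hb).ne_zero h2
  have h1 := mem_BX hφ hqq ((mem_rts cs).2 ha) ((mem_rts cs).2 hb) hne hx' hy'
  have h2 : BX φ a b = (⨆ c : {c : Fin 4 → ℤ // bti a b c}, Yl φ π c.1).map π := by
    rw [Subgroup.map_iSup]
    unfold BX
    exact iSup_congr fun c => (Yl_map hφ hqq hF hs ((mem_rts cs).1 c.2.1)).symm
  rw [h2] at h1
  obtain ⟨m, hm, e⟩ := h1
  have hmD : m ∈ D φ π r := by
    refine (iSup_le fun c => ?_ : (⨆ c : {c : Fin 4 → ℤ // bti a b c}, Yl φ π c.1) ≤ D φ π r) hm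
    obtain ⟨h3, i, j, hi, hj, e⟩ := c.2
    refine Yl_le hφ hqq hs hD ((mem_rts cs).1 h3) hr hrl ?_
    have h4 : bf c.1 r = i * bf a r + j * bf b r := by
      rw [e, ← natCast_zsmul, ← natCast_zsmul, bf_add_left, bf_smul_left, bf_smul_left]
    rw [h4]
    have hi' : (0 : ℤ) < i := by exact_mod_cast hi
    have hj' : (0 : ℤ) < j := by exact_mod_cast hj
    rcases h with ⟨h5, h6⟩ | ⟨h5, h6⟩
    · have := mul_pos hj' h5
      have := mul_nonneg hi'.le h6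
      omega
    · have := mul_pos hi' h5
      have := mul_nonneg hj'.le h6
      omega
  have hxD : ⁅x, y⁆ ∈ D φ π r := by
    rcases h with ⟨h5, h6⟩ | ⟨h5, h6⟩
    · exact mem_D' (X_le_Pr ha h6 hx') (X_le_Vr hb h5 hy')
    · exact mem_D (X_le_Vr ha h5 hx') (X_le_Pr hb h6 hy')
  have h3 : ⁅x, y⁆ * m⁻¹ ∈ D φ π r ⊓ π.ker := Subgroup.mem_inf.2 ⟨mul_mem hxD (inv_mem hmD), by
    rw [MonoidHom.mem_ker, map_mul, map_inv, e, map_commutatorElement, mul_inv_cancel]⟩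
  rw [hD r hr hrl, mem_bot, mul_inv_eq_one] at h3
  rw [h3]
  exact hm

end Main

include hφ hqq in
/-- **The core**: if `[V~, P~]` meets the kernel trivially then the kernel has odd order. -/
theorem core [Finite L] [CharP F 2] (hF : Fintype.card F = 4) (hs : Function.Surjective π) (hc : π.ker ≤ center L)
    (hL : commutator L = ⊤) (h0 : ⁅(V φ j1).comap π, (P φ j1).comap π⁆ ⊓ π.ker = ⊥) {a : L} (ha : π a = 1) :
    ∃ n : ℕ, ¬ 2 ∣ n ∧ a ^ n = 1 := by
  have : Fact (Nat.Prime 2) := ⟨Nat.prime_two⟩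
  have : Finite CoxeterMatrix.F₄.Group := finiteW cs
  have : Finite (KK F) := inferInstance
  set R := rgd cs hφ hqq 2 with hR
  have h1 : D φ π th ⊓ π.ker = ⊥ := by
    rw [eq_bot_iff, ← h0]
    exact inf_le_inf_right _ (commutator_mono (comap_mono Vr_th_le) (comap_mono Pr_th_le))
  have hD : ∀ r ∈ rts, bf r r = 4 → D φ π r ⊓ π.ker = ⊥ := fun r hr hl => D_conj hφ hqq hs hc h1 hr hl
  have h2 := Cfsg.Agent.H164.F4.Coll.coll hF hφ (Yl φ π)
    (fun b hb _ => ⟨Yl_map hφ hqq hF hs ((mem_rts cs).1 hb), Yl_ker hφ hqq hs hD ((mem_rts cs).1 hb)⟩)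
    (fun a b ha ha0 hb hb0 hab => Yl_comm hφ hqq hF hs hD ((mem_rts cs).1 ha) ha0 ((mem_rts cs).1 hb) hb0 hab)
  set Z : Subgroup L := ⨆ b : {b : Fin 4 → ℤ // IsRoot cs isCartan b ∧ 0 ≤ b}, Yl φ π b.1 with hZ
  have h3 : Z.map π = RGD.Sup (X φ) (RGD.Pos cs isCartan) := by
    rw [hZ, Subgroup.map_iSup]
    exact iSup_congr fun b => Yl_map hφ hqq hF hs ((mem_rts cs).1 b.2.1)
  have hG : GG cs isCartan (RGDTwE6.T F 2) (X φ) = ⊤ := by
    rw [eq_top_iff, ← G1_eq_top cs hφ hqq]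
    exact le_sup_right
  obtain ⟨S, hS⟩ := Cfsg.Agent.KFacts.RgdAutFacts.exists_sylow R hG
  have h4 := Cfsg.Agent.Nodes.ExactLift.Lft.pow_index hs hc hL (V := Z) (fun a ha h => by
    have h5 : a ∈ Z ⊓ π.ker := ⟨ha, h⟩
    rw [h2] at h5
    exact mem_bot.1 h5) ha
  refine ⟨_, ?_, h4⟩
  rw [h3, ← hS]
  exact S.not_dvd_index

include hφ hqq in
/-- **H1.** -/
theorem h1_of [Finite L] [CharP F 2] (hF : Fintype.card F = 4) (hs : Function.Surjective π) (hc : π.ker ≤ center L)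
    (hL : commutator L = ⊤) {z : L} (hz : π z = 1) (hz2 : z * z = 1) :
    z ∈ ⁅(V φ j1).comap π, (P φ j1).comap π⁆ := by
  set E : Subgroup L := ⁅(V φ j1).comap π, (P φ j1).comap π⁆ with hE
  set M : Subgroup L := E ⊓ π.ker with hM
  have hMc : M ≤ center L := inf_le_right.trans hc
  have hMn : M.Normal := ⟨fun n hn g => by
    rw [mem_center_iff.1 (hMc hn) g, mul_inv_cancel_right]
    exact hn⟩
  have hMk : ∀ x ∈ M, π x = 1 := fun x hx => hx.2
  let π' : L ⧸ M →* KK F := QuotientGroup.lift M π hMk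
  have hπ' : ∀ x : L, π' (x : L ⧸ M) = π x := fun x => rfl
  have hs' : Function.Surjective π' := fun y => by
    obtain ⟨x, rfl⟩ := hs y
    exact ⟨(x : L ⧸ M), rfl⟩
  have hmk : Function.Surjective (QuotientGroup.mk' M) := QuotientGroup.mk'_surjective M
  have hc' : π'.ker ≤ center (L ⧸ M) := by
    intro x hx
    obtain ⟨x, rfl⟩ := hmk x
    rw [mem_center_iff]
    intro y
    obtain ⟨y, rfl⟩ := hmk y
    rw [← map_mul, ← map_mul, mem_center_iff.1 (hc (show π x = 1 from hx)) y]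
  have hL' : commutator (L ⧸ M) = ⊤ := by
    have h1 := congrArg (Subgroup.map (QuotientGroup.mk' M)) hL
    rw [commutator_def, map_commutator, Subgroup.map_top_of_surjective _ hmk] at h1
    rw [commutator_def]
    exact h1
  have hcomap : ∀ A : Subgroup (KK F), A.comap π' = (A.comap π).map (QuotientGroup.mk' M) := by
    intro A
    have h1 : A.comap π = (A.comap π').comap (QuotientGroup.mk' M) := rfl
    rw [h1, map_comap_eq_self_of_surjective hmk]
  have h0 : ⁅(V φ j1).comap π', (P φ j1).comap π'⁆ ⊓ π'.ker = ⊥ := by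
    rw [hcomap, hcomap, ← map_commutator, eq_bot_iff]
    rintro _ ⟨⟨x, hx, rfl⟩, hx'⟩
    rw [mem_bot]
    exact (QuotientGroup.eq_one_iff x).2 ⟨hx, hx'⟩
  obtain ⟨n, hn, h2⟩ := core hφ hqq hF hs' hc' hL' h0 (a := (z : L ⧸ M)) hz
  have h3 : (z : L ⧸ M) = 1 := by
    have h4 : (z : L ⧸ M) ^ 2 = 1 := by
      rw [pow_two]
      exact congrArg (QuotientGroup.mk' M) hz2
    have h5 : orderOf (z : L ⧸ M) ∣ 1 := by
      have hcop : Nat.Coprime n 2 := ((Nat.Prime.coprime_iff_not_dvd Nat.prime_two).2 hn).symm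
      rw [← hcop]
      exact Nat.dvd_gcd (orderOf_dvd_of_pow_eq_one h2) (orderOf_dvd_of_pow_eq_one h4)
    exact orderOf_eq_one_iff.1 (Nat.dvd_one.1 h5)
  exact ((QuotientGroup.eq_one_iff z).1 h3).1

end L

/-- **H1 : the 2-part of the kernel is in `[V~, P~]`.** -/
theorem h1 {F : Type u} [Field F] [Fintype F] (hF : Fintype.card F = 4) {φ : F →+* F} (hφ : ∀ t, φ t = t ^ 2)
    {L : Type v} [Group L] [Finite L] {π : L →* KK F} (hπ : Cfsg.Agent.H51.Mult.PCE π) (z : L) (hz : π z = 1)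
    (hz2 : z * z = 1) : z ∈ ⁅(V φ j1).comap π, (P φ j1).comap π⁆ := by
  have : CharP F 2 := Cfsg.Agent.H164.F4.OutV.charTwo hF
  have hqq : ∀ t : F, (t ^ 2) ^ 2 = t := fun t => by
    rw [← pow_mul, show 2 * 2 = Fintype.card F by rw [hF]]
    exact FiniteField.pow_card t
  exact h1_of hφ hqq hF hπ.surj hπ.cen hπ.perf hz hz2

end Cfsg.Agent.H231.QF.HOne
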