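import Cfsg.Agent.H231.QF.Defs
import Cfsg.Agent.H66.TwESixMult
import Cfsg.Agent.H935.F4.Sieve
import Cfsg.Agent.H494.TE.ThreeFin
import Cfsg.Agent.H258.QF.Class
import Cfsg.Agent.H594.QF.Cent
import Cfsg.Agent.H164.F4.Out
import Cfsg.Agent.H287.F4.Par
import Cfsg.Agent.H590.F4.CFive
import Cfsg.Agent.H590.F4.CEleven
import Cfsg.Agent.H235.F4.CSeven
import Cfsg.Agent.H461.QF.P1Main
import Cfsg.Agent.H461.QF.SevenMain
import Cfsg.Agent.H590.F4.P4Main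
import Cfsg.Agent.H590.F4.ReIff

/-!
# S2491, row F4 = `²E₆(2)` : the row from its pieces

`rowN_of` : `RowN (KK F)`, `F : Type` of order 4.
-/

set_option autoImplicit false
set_option linter.unusedSectionVars false

namespace Cfsg.Agent.H231.QF

universe u

open Cfsg.Lie Subgroup
open Cfsg.Agent.H51.Mult (PCE)
open Cfsg.Agent.H777.Ore (AllC IsC)

theorem rowN_of {F : Type} [Field F] [Fintype F] (hF : Fintype.card F = 4) {φ : F →+* F} (hφ : ∀ t, φ t = t ^ 2)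
    (hre : ∀ t : KK F, RE t ↔ t ≠ 1 ∧ ∃ x : KK F, x * t * x⁻¹ ∈ X φ th)
    (hpar : Cfsg.Agent.H258.QF.Par φ)
    (h5 : ∀ g : KK F, 5 ∣ orderOf g → CR g ∨ Sm g)
    (h7 : ∀ g : KK F, 7 ∣ orderOf g → CR g ∨ H231.QF.Out φ j4 g ∨ Sm g)
    (hb : ∀ (g : KK F) (p : ℕ), (p = 11 ∨ p = 13 ∨ p = 17 ∨ p = 19) → p ∣ orderOf g → Sm g)
    (hp1 : ∀ (L : Type) [Group L] [Finite L] (π : L →* KK F), PCE π → Nat.card π.ker = 12 →
      (∀ g : L, π g ∈ P φ j4 → π g ∉ V φ j4 → IsC g) → ∀ g : L, π g ∈ P φ j1 → π g ∉ V φ j1 → IsC g)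
    (hp4 : ∀ (L : Type) [Group L] [Finite L] (π : L →* KK F), PCE π → Nat.card π.ker = 12 →
      ∀ g : L, π g ∈ P φ j4 → π g ∉ V φ j4 → IsC g) : Cfsg.Agent.H6.QO.RowN (KK F) := by
  have hA := Cfsg.Agent.H66.TwESixMult.result hF
  obtain ⟨Γ, _, _, σ, hst, ⟨e⟩⟩ := hA.1
  have hX : commutator (KK F) = ⊤ := by
    have hs : IsSimpleGroup (KK F) := (Cfsg.Agent.S1070.result (q := 2) Nat.prime_two.isPrimePow (by rw [hF]; norm_num)).1
    have hc : ¬ IsMulCommutative (KK F) :=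
      (Cfsg.Agent.S1070.result (q := 2) Nat.prime_two.isPrimePow (by rw [hF]; norm_num)).2
    exact Cfsg.Agent.H935.F4.perfect_of_simple hc
  have hσ : PCE σ := PCE.of_stem hst hX
  have hcard : Nat.card σ.ker = Nat.card (Multiplicative (ZMod 3 × ZMod 2 × ZMod 2)) := Nat.card_congr e.toEquiv
  have h12 : Nat.card σ.ker = 12 := by
    rw [hcard, Nat.card_congr Multiplicative.toAdd, Nat.card_prod, Nat.card_prod, Nat.card_zmod, Nat.card_zmod]
  refine Cfsg.Agent.H6.QO.RowN.of_univ hA hσ hcard ?_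
  refine nc_of (φ := φ) hσ.surj hσ.cen (hp1 Γ σ hσ h12 (hp4 Γ σ hσ h12)) (hp4 Γ σ hσ h12) ?_ ?_ ?_ ?_
  · intro g _ hg
    exact Cfsg.Agent.H935.F4.isC_of_card hF hσ h12.le hg
  · rintro g h1 ⟨k, hk⟩
    exact Cfsg.Agent.H494.TE.isC_of_primepow hF hσ (p := 3) (Or.inl rfl) hk h1
  · intro g _
    exact Cfsg.Agent.H258.QF.classification_of hre (fun ht h1 => Cfsg.Agent.H594.QF.centralizer_eq hF hφ ht h1) hF hpar
      h5 h7 hb g
  · intro g hg h1
    exact Cfsg.Agent.H164.F4.OutV.out_of_V1 hF hφ g hg h1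

/-- **S2491, row F4: every noncentral element of every perfect central extension of `²E₆(2)` is a commutator.** -/
theorem rowN {F : Type} [Field F] [Fintype F] (hF : Fintype.card F = 4) : Cfsg.Agent.H6.QO.RowN (KK F) := by
  obtain ⟨φ, hφ, -⟩ := Cfsg.Agent.ChevalleyStructure.TwE6Basic.exists_frob (K := F) (q := 2) Nat.prime_two.isPrimePow
    (by rw [hF]; norm_num)
  have hE : Cfsg.Agent.H235.F4.ESeven φ := fun g z hg hz hz1 hc h7 =>
    Cfsg.Agent.H461.QF.SevenMain.e7 hF hφ hg hz hz1 hc h7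
  have hre : ∀ t : KK F, RE t ↔ t ≠ 1 ∧ ∃ x : KK F, x * t * x⁻¹ ∈ X φ th := fun t =>
    Cfsg.Agent.H590.F4.ReIff.re_iff hF hφ t
  exact rowN_of hF hφ hre (fun g z h1 h2 h3 => Cfsg.Agent.H287.F4.Par.par hF hφ g z h1 h2 h3)
    (fun g h => Cfsg.Agent.H590.F4.CFive.c_five hF hφ g h)
    (fun g h => Cfsg.Agent.H235.F4.c_seven_of hre
      (fun ht h1 => Cfsg.Agent.H594.QF.centralizer_eq hF hφ ht h1) hF hφ hE g h)
    (fun g p hp h => Cfsg.Agent.H590.F4.CEleven.c_big hF g hp h)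
    (fun L _ _ π hπ hk h4 g h h1 => Cfsg.Agent.H461.QF.p1 hF hφ hπ hk h4 g h h1)
    (fun L _ _ π hπ hk g h h1 => Cfsg.Agent.H590.F4.P4Main.p4 hF hφ hπ hk g h h1)

/-- the row over every field of order 4 -/
theorem rowN' {F : Type u} [Field F] [Fintype F] (hF : Fintype.card F = 4) : Cfsg.Agent.H6.QO.RowN (KK F) := by
  have : Fact (Nat.Prime 2) := ⟨Nat.prime_two⟩
  let F₀ := GaloisField 2 2
  have : Fintype F₀ := Fintype.ofFinite F₀
  have h0 : Fintype.card F₀ = 4 := by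
    rw [← Nat.card_eq_fintype_card, GaloisField.card 2 2 (by norm_num)]
    norm_num
  let f : F₀ ≃+* F := FiniteField.ringEquivOfCardEq (h0.trans hF.symm)
  exact (rowN h0).congr (Cfsg.Agent.H59.ESixField.equiv f 2)

end Cfsg.Agent.H231.QF
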